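import Mathlib
import Cfsg.Agent.Lib.Helper3.Zass.ZhDefs

/-!
# ZASS (S0690), package [ZH-SMALL]

With at most two lines through each point, the subgroup generated by the elements of order 3
is trivial, of order 3, a line or a plane.
-/

set_option autoImplicit false

namespace Cfsg.Agent.Lib.Helper96.Zass

open Cfsg.Agent.Lib.Helper51.Zass Cfsg.Agent.Lib.Helper3.Zass

universe u

variable {G : Type u} [Group G]

/-- a subgroup of order 3 lies in `N3 G` -/
theorem point_le_N3 [Finite G] (P : Subgroup G) (hP : Nat.card P = 3) : P ≤ N3 G := by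
  intro x hx
  by_cases h1 : x = 1
  · rw [h1]; exact one_mem _
  · apply Subgroup.subset_closure
    show orderOf x = 3
    have hd : orderOf x ∣ 3 := hP ▸ Subgroup.orderOf_dvd_natCard P hx
    rcases (Nat.dvd_prime Nat.prime_three).mp hd with h | h
    · exact absurd (orderOf_eq_one_iff.mp h) h1
    · exact h

/-- `N3 G` lies in any subgroup containing all points -/
theorem N3_le (H : Subgroup G) (hH : ∀ R : Subgroup G, Nat.card R = 3 → R ≤ H) : N3 G ≤ H := by
  rw [N3, Subgroup.closure_le]
  intro g hg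
  have hg3 : orderOf g = 3 := hg
  have hc : Nat.card (Subgroup.zpowers g) = 3 := by rw [Nat.card_zpowers, hg3]
  exact hH _ hc (Subgroup.mem_zpowers g)

theorem sup_self_card_ne (P : Subgroup G) (hP : Nat.card P = 3) : Nat.card ↥(P ⊔ P) ≠ 24 := by
  rw [sup_idem, hP]; norm_num

/-- a point of a plane lies on two distinct lines of the plane -/
theorem two_lines_in_plane [Finite G] (hGeo : Geo G) (Pl P : Subgroup G) (hPl : IsPlane Pl)
    (hP : Nat.card P = 3) (hPPl : P ≤ Pl) :
    ∃ Q1 Q2 : Subgroup G, Nat.card Q1 = 3 ∧ Nat.card Q2 = 3 ∧ IsLine (P ⊔ Q1) ∧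
      IsLine (P ⊔ Q2) ∧ P ⊔ Q1 ≠ P ⊔ Q2 ∧ P ⊔ Q1 ≤ Pl ∧ P ⊔ Q2 ≤ Pl := by
  have h6 := hGeo.plane6 Pl P hPl hP hPPl
  set S6 : Set (Subgroup G) :=
    {Q : Subgroup G | Nat.card Q = 3 ∧ Q ≤ Pl ∧ Nat.card ↥(P ⊔ Q) = 24} with hS6
  have hline : ∀ Q ∈ S6, IsLine (P ⊔ Q) ∧ P ⊔ Q ≤ Pl := by
    intro Q hQ
    obtain ⟨hQ3, hQPl, hQ24⟩ := hQ
    have hne : P ≠ Q := by
      intro h
      rw [← h] at hQ24
      exact sup_self_card_ne P hP hQ24
    refine ⟨?_, sup_le hPPl hQPl⟩
    rcases hGeo.pair P Q hP hQ3 hne with h | h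
    · exact h
    · have := hGeo.planeCard _ h
      omega
  have hne6 : S6.Nonempty := by
    rw [← Set.ncard_pos (Set.toFinite _), h6]; norm_num
  obtain ⟨Q1, hQ1⟩ := hne6
  have hL1 := hline Q1 hQ1
  have h4 := hGeo.line4 (P ⊔ Q1) hL1.1
  have hlt : Set.ncard {R : Subgroup G | Nat.card R = 3 ∧ R ≤ P ⊔ Q1} < S6.ncard := by
    rw [h4, h6]; norm_num
  obtain ⟨Q2, hQ2, hQ2n⟩ := Set.exists_mem_notMem_of_ncard_lt_ncard hlt (Set.toFinite _)
  have hL2 := hline Q2 hQ2
  refine ⟨Q1, Q2, hQ1.1, hQ2.1, hL1.1, hL2.1, ?_, hL1.2, hL2.2⟩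
  intro h
  apply hQ2n
  refine ⟨hQ2.1, ?_⟩
  rw [h]
  exact le_sup_right

/-- [ZH-SMALL] -/
theorem pkgZhSmall : PkgZhSmall.{u} := by
  intro G _ _ hGeo h2
  by_cases hpl : ∃ Pl P : Subgroup G, IsPlane Pl ∧ Nat.card P = 3 ∧ P ≤ Pl
  · -- a plane exists: `N3 G` is that plane
    obtain ⟨Pl, P, hPl, hP, hPPl⟩ := hpl
    obtain ⟨Q1, Q2, hQ1, hQ2, hL1, hL2, hne, hL1Pl, hL2Pl⟩ :=
      two_lines_in_plane hGeo Pl P hPl hP hPPl
    have hcardPl := hGeo.planeCard Pl hPl
    -- every line through `P` is one of the two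
    have hall : ∀ L : Subgroup G, IsLine L → P ≤ L → L = P ⊔ Q1 ∨ L = P ⊔ Q2 := by
      intro L hL hPL
      by_contra hcon
      push Not at hcon
      have hsub : ({P ⊔ Q1, P ⊔ Q2, L} : Set (Subgroup G)) ⊆
          {L : Subgroup G | IsLine L ∧ P ≤ L} := by
        intro M hM
        simp only [Set.mem_insert_iff, Set.mem_singleton_iff] at hM
        rcases hM with h | h | h
        · rw [h]; exact ⟨hL1, le_sup_left⟩
        · rw [h]; exact ⟨hL2, le_sup_left⟩
        · rw [h]; exact ⟨hL, hPL⟩
      have h3 : ({P ⊔ Q1, P ⊔ Q2, L} : Set (Subgroup G)).ncard = 3 :=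
        Set.ncard_eq_three.mpr ⟨_, _, _, hne, fun h => hcon.1 h.symm, fun h => hcon.2 h.symm, rfl⟩
      have := Set.ncard_le_ncard hsub (Set.toFinite _)
      have := h2 P hP
      omega
    -- the two lines span the plane
    have hspan : (P ⊔ Q1) ⊔ (P ⊔ Q2) = Pl := by
      have hpl' : IsPlane ((P ⊔ Q1) ⊔ (P ⊔ Q2)) :=
        hGeo.t1 P _ _ hP hL1 hL2 le_sup_left le_sup_left hne
      apply Subgroup.eq_of_le_of_card_ge (sup_le hL1Pl hL2Pl)
      rw [hcardPl, hGeo.planeCard _ hpl']
    -- every point lies in the plane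
    have hpts : ∀ R : Subgroup G, Nat.card R = 3 → R ≤ Pl := by
      intro R hR
      by_cases hRP : R = P
      · rw [hRP]; exact hPPl
      · rcases hGeo.pair P R hP hR (fun h => hRP h.symm) with h | h
        · rcases hall _ h le_sup_left with h' | h'
          · exact le_trans (le_sup_right : R ≤ P ⊔ R) (h' ▸ hL1Pl)
          · exact le_trans (le_sup_right : R ≤ P ⊔ R) (h' ▸ hL2Pl)
        · -- `P ⊔ R` is a plane through `P`: it equals `Pl`
          obtain ⟨Q1', Q2', _, _, hL1', hL2', hne', hL1Pl', hL2Pl'⟩ :=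
            two_lines_in_plane hGeo (P ⊔ R) P h hP le_sup_left
          have hle : Pl ≤ P ⊔ R := by
            rw [← hspan]
            rcases hall _ hL1' le_sup_left with a | a <;>
              rcases hall _ hL2' le_sup_left with b | b
            · exact absurd (a.trans b.symm) hne'
            · exact sup_le (a ▸ hL1Pl') (b ▸ hL2Pl')
            · exact sup_le (b ▸ hL2Pl') (a ▸ hL1Pl')
            · exact absurd (a.trans b.symm) hne'
          have heq : Pl = P ⊔ R := by
            apply Subgroup.eq_of_le_of_card_ge hle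
            rw [hcardPl, hGeo.planeCard _ h]
          rw [heq]; exact le_sup_right
    have hN : N3 G = Pl := by
      apply le_antisymm (N3_le Pl hpts)
      rw [← hspan]
      exact sup_le (sup_le (point_le_N3 P hP) (point_le_N3 Q1 hQ1))
        (sup_le (point_le_N3 P hP) (point_le_N3 Q2 hQ2))
    right; right; right
    rw [hN]; exact hPl
  · -- no plane contains a point
    push Not at hpl
    by_cases h0 : ∃ g : G, orderOf g = 3
    · obtain ⟨g, hg⟩ := h0
      have hP : Nat.card (Subgroup.zpowers g) = 3 := by rw [Nat.card_zpowers, hg]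
      set P : Subgroup G := Subgroup.zpowers g with hPdef
      by_cases h1 : ∃ Q : Subgroup G, Nat.card Q = 3 ∧ Q ≠ P
      · obtain ⟨Q, hQ, hQP⟩ := h1
        have hlineOf : ∀ R : Subgroup G, Nat.card R = 3 → R ≠ P → IsLine (P ⊔ R) := by
          intro R hR hRP
          rcases hGeo.pair P R hP hR (fun h => hRP h.symm) with h | h
          · exact h
          · exact absurd le_sup_left (hpl _ P h hP)
        have hL := hlineOf Q hQ hQP
        have hpts : ∀ R : Subgroup G, Nat.card R = 3 → R ≤ P ⊔ Q := by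
          intro R hR
          by_cases hRP : R = P
          · rw [hRP]; exact le_sup_left
          · have hL' := hlineOf R hR hRP
            by_cases hLL : P ⊔ Q = P ⊔ R
            · rw [hLL]; exact le_sup_right
            · have := hGeo.t1 P _ _ hP hL hL' le_sup_left le_sup_left hLL
              exact absurd (le_trans le_sup_left le_sup_left) (hpl _ P this hP)
        have hN : N3 G = P ⊔ Q :=
          le_antisymm (N3_le _ hpts) (sup_le (point_le_N3 P hP) (point_le_N3 Q hQ))
        right; right; left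
        rw [hN]; exact hL
      · push Not at h1
        have hN : N3 G = P :=
          le_antisymm (N3_le _ (fun R hR => (h1 R hR).le)) (point_le_N3 P hP)
        right; left
        rw [hN]; exact hP
    · push Not at h0
      left
      have hN : N3 G = ⊥ := by
        rw [N3]
        have : {g : G | orderOf g = 3} = ∅ := by
          ext g; simp [h0 g]
        rw [this, Subgroup.closure_empty]
      rw [hN]
      exact Subgroup.card_bot

end Cfsg.Agent.Lib.Helper96.Zass
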